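import Cfsg.Agent.Lib.LinTwo.Classes

/-!
Conjugacy of non-scalar two by two matrices: `M` is conjugate to the companion matrix by
`[v | M v]`, whose determinant is the quadratic form `qform M v`.
-/

set_option autoImplicit false

namespace Cfsg.Agent.Lib.ClassCount48

open Matrix

variable {F : Type*} [Field F]

/-- The determinant of `[v | M v]`. -/
def qform (M : Matrix (Fin 2) (Fin 2) F) (x y : F) : F :=
  M 1 0 * x ^ 2 + (M 1 1 - M 0 0) * x * y - M 0 1 * y ^ 2

/-- The matrix `[v | M v]`. -/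
def cyc (M : Matrix (Fin 2) (Fin 2) F) (x y : F) : Matrix (Fin 2) (Fin 2) F :=
  !![x, M 0 0 * x + M 0 1 * y; y, M 1 0 * x + M 1 1 * y]

theorem det_cyc (M : Matrix (Fin 2) (Fin 2) F) (x y : F) : (cyc M x y).det = qform M x y := by
  simp [cyc, qform, det_fin_two]; ring

/-- The companion matrix of `X ^ 2 - t X + d`. -/
def compan (t d : F) : Matrix (Fin 2) (Fin 2) F := !![0, -d; 1, t]

theorem mul_cyc (M : Matrix (Fin 2) (Fin 2) F) (x y : F) :
    M * cyc M x y = cyc M x y * compan M.trace M.det := by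
  ext i j
  fin_cases i <;> fin_cases j <;>
    simp [cyc, compan, Matrix.mul_apply, Fin.sum_univ_two, trace_fin_two, det_fin_two] <;> ring

/-- A matrix which is not scalar. -/
def NonScal (M : Matrix (Fin 2) (Fin 2) F) : Prop := M 0 1 ≠ 0 ∨ M 1 0 ≠ 0 ∨ M 0 0 ≠ M 1 1

theorem exists_qform_ne_zero {M : Matrix (Fin 2) (Fin 2) F} (hM : NonScal M) :
    ∃ x y, qform M x y ≠ 0 := by
  by_contra h
  push Not at h
  have h1 := h 1 0
  have h2 := h 0 1
  have h3 := h 1 1
  simp [qform] at h1 h2 h3
  rcases hM with h4 | h4 | h4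
  · exact h4 h2
  · exact h4 h1
  · exact h4 (by linear_combination -h3 + h1 - h2)

theorem nonScal_comp (t d : F) : NonScal (compan t d) := Or.inr (Or.inl (by simp [compan]))

theorem trace_comp (t d : F) : (compan t d).trace = t := by simp [compan, trace_fin_two]

theorem det_comp (t d : F) : (compan t d).det = d := by simp [compan, det_fin_two]

theorem qform_comp_one (t d : F) : qform (compan t d) 1 0 = 1 := by simp [qform, compan]

/-- Same invariants, same value of the form: conjugate by a matrix of determinant one. -/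
theorem exists_conj_sl {M N : Matrix (Fin 2) (Fin 2) F} (htr : M.trace = N.trace)
    (hdet : M.det = N.det) {x y x' y' : F} (h0 : qform M x y ≠ 0)
    (h : qform N x' y' = qform M x y) :
    ∃ g : Matrix.SpecialLinearGroup (Fin 2) F,
      (g : Matrix (Fin 2) (Fin 2) F) * M = N * g := by
  set P := cyc M x y
  set R := cyc N x' y'
  have hP : IsUnit P.det := isUnit_iff_ne_zero.2 (by rwa [det_cyc])
  refine ⟨⟨R * P⁻¹, ?_⟩, ?_⟩
  · rw [det_mul, det_cyc, h, det_nonsing_inv, Ring.inverse_eq_inv', det_cyc, mul_inv_cancel₀ h0]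
  · show R * P⁻¹ * M = N * (R * P⁻¹)
    have hR : N * R = R * compan M.trace M.det := by rw [htr, hdet]; exact mul_cyc N x' y'
    have hM : P⁻¹ * M = compan M.trace M.det * P⁻¹ := by
      calc P⁻¹ * M = P⁻¹ * (M * P) * P⁻¹ := by
            rw [Matrix.mul_assoc, Matrix.mul_assoc, Matrix.mul_nonsing_inv P hP, Matrix.mul_one]
        _ = _ := by
            rw [mul_cyc, ← Matrix.mul_assoc, Matrix.nonsing_inv_mul P hP, Matrix.one_mul]
    rw [Matrix.mul_assoc, hM, ← Matrix.mul_assoc, ← hR, Matrix.mul_assoc]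

theorem nonScal_of_conj {G : Type*} [Group G] (f : G →* GL (Fin 2) F) {a b : G} (h : IsConj a b)
    (ha : NonScal (f a : Matrix (Fin 2) (Fin 2) F)) : NonScal (f b : Matrix (Fin 2) (Fin 2) F) := by
  by_contra hb
  unfold NonScal at hb
  push Not at hb
  obtain ⟨g, hg⟩ := isConj_iff.1 h.symm
  have hB : (f b : Matrix (Fin 2) (Fin 2) F) = (f b : Matrix (Fin 2) (Fin 2) F) 0 0 • 1 := by
    ext i j
    fin_cases i <;> fin_cases j <;> simp [hb.1, hb.2.1, ← hb.2.2]
  have hA : (f a : Matrix (Fin 2) (Fin 2) F) = (f b : Matrix (Fin 2) (Fin 2) F) 0 0 • 1 := by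
    rw [← hg, map_mul, map_mul, map_inv, Units.val_mul, Units.val_mul]
    conv_lhs => rw [hB, Matrix.mul_smul, Matrix.mul_one, Matrix.smul_mul, Units.mul_inv]
  rcases ha with ha | ha | ha <;> exact ha (by rw [hA]; simp)

end Cfsg.Agent.Lib.ClassCount48
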